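import Cfsg.Agent.H81.S8.HNEnd
import Cfsg.Agent.H81.S8.KLNine
import Cfsg.Agent.H651.HNF.Raw

/-!
# S4908, FROB row of HN: the size condition `Bd T` gives `2 |T| k(T) ≤ |HN|` (helper81)

`R : Raw HN` is `Cfsg.Agent.H651.HNF.raw` (module `Cfsg.Agent.H651.HNF.Main`).
-/

set_option autoImplicit false

namespace Cfsg.Agent.H81.S8.HN

open Subgroup Cfsg Cfsg.Agent.H388.HNF
open Cfsg.Agent.H651.HNF (Raw cn)

theorem cent_dvd (T : Subgroup G) (z : T) :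
    Nat.card (centralizer ({z} : Set T)) ∣ Nat.card (centralizer ({(z : G)} : Set G)) := by
  have h : (centralizer ({z} : Set T)).map T.subtype ≤ centralizer ({(z : G)} : Set G) := by
    rintro _ ⟨g, hg, rfl⟩
    rw [mem_centralizer_singleton_iff]
    exact congrArg Subtype.val (mem_centralizer_singleton_iff.1 hg)
  have h1 := card_dvd_of_le h
  rwa [card_map_of_injective T.subtype_injective] at h1

theorem arith {t k K M N : ℕ} (h1 : k ≤ K + t / M) (h2 : t ≤ N) (h3 : 2 * (N * (K + N / M)) ≤ 273030912000000) :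
    2 * (t * k) ≤ 273030912000000 := by
  refine le_trans ?_ h3
  have := Nat.div_le_div_right (c := M) h2
  exact Nat.mul_le_mul_left 2 (Nat.mul_le_mul h2 (h1.trans (Nat.add_le_add_left this K)))

/-- the bounds `c_p` -/
def cf (p : ℕ) : ℕ := if p = 7 then 420 else if p = 11 then 22 else 15360

theorem ex_seven (R : Raw G) {T : Subgroup G} (h : 7 ∣ Nat.card T) :
    ∃ z : T, (∃ k : ℕ, orderOf z = 7 ^ k) ∧ Nat.card (centralizer ({z} : Set T)) ≤ cf 7 := by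
  have : Fact (Nat.Prime 7) := ⟨by norm_num⟩
  obtain ⟨z, hz⟩ := exists_prime_orderOf_dvd_card' 7 h
  refine ⟨z, ⟨1, by rw [hz, pow_one]⟩, (cent_le T z).trans ?_⟩
  have h1 := R.r7 (z : G) (by rw [orderOf_submonoid z, hz])
  unfold cn at h1
  rw [h1]
  decide

theorem ex_eleven (R : Raw G) {T : Subgroup G} (h : 11 ∣ Nat.card T) :
    ∃ z : T, (∃ k : ℕ, orderOf z = 11 ^ k) ∧ Nat.card (centralizer ({z} : Set T)) ≤ cf 11 := by
  have : Fact (Nat.Prime 11) := ⟨by norm_num⟩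
  obtain ⟨z, hz⟩ := exists_prime_orderOf_dvd_card' 11 h
  refine ⟨z, ⟨1, by rw [hz, pow_one]⟩, (cent_le T z).trans ?_⟩
  have h1 := R.r11 (z : G) (by rw [orderOf_submonoid z, hz])
  unfold cn at h1
  rw [h1]
  decide

theorem ex_four (R : Raw G) {T : Subgroup G} (h : ∃ z ∈ T, orderOf z = 4) :
    ∃ z : T, (∃ k : ℕ, orderOf z = 2 ^ k) ∧ Nat.card (centralizer ({z} : Set T)) ≤ cf 2 := by
  obtain ⟨z, hzT, hz⟩ := h
  refine ⟨⟨z, hzT⟩, ⟨2, by rw [← orderOf_submonoid (⟨z, hzT⟩ : T), hz]; rfl⟩, (cent_le T ⟨z, hzT⟩).trans ?_⟩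
  have h1 := R.r4 z hz
  unfold cn at h1
  have h2 : cf 2 = 15360 := by decide
  rw [h2]
  rcases h1 with ⟨-, h1⟩ | ⟨-, h1⟩ | ⟨-, h1⟩ <;> (change Nat.card (centralizer ({z} : Set G)) ≤ _; omega)

theorem kl (R : Raw G) {T : Subgroup G} (hq : ∃ q ∈ T, orderOf q = 9) (s : Finset ℕ)
    (hs : ∀ p ∈ s, p.Prime ∧ p ≠ 3)
    (hc : ∀ p ∈ s, ∃ z : T, (∃ k : ℕ, orderOf z = p ^ k) ∧ Nat.card (centralizer ({z} : Set T)) ≤ cf p) :
    Nat.card (ConjClasses T) ≤ 29187 + ∑ p ∈ s, cf p + Nat.card T / (9 * ∏ p ∈ s, p) ^ 2 := by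
  obtain ⟨q, hqT, hq9⟩ := hq
  have hq' : orderOf (⟨q, hqT⟩ : T) = 9 := by rw [← orderOf_submonoid (⟨q, hqT⟩ : T), hq9]
  have h := card_conj_le9 hq' s hs cf hc
  have h1 := cent_le T ⟨q, hqT⟩
  have h2 := cent_le T (⟨q, hqT⟩ ^ 3)
  obtain ⟨h3, h4⟩ := R.r9 q hq9
  unfold cn at h3 h4
  have h5 : ((⟨q, hqT⟩ ^ 3 : T) : G) = q ^ 3 := rfl
  rw [h5, h3] at h2
  have h1' : Nat.card (centralizer ({(⟨q, hqT⟩ : T)} : Set T)) ≤ 27 := h1.trans h4.le
  omega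

theorem kl6 (R : Raw G) {T : Subgroup G} (hq : ∃ q ∈ T, orderOf q = 9) (h6 : ¬ 3 ^ 6 ∣ Nat.card T) (s : Finset ℕ)
    (hs : ∀ p ∈ s, p.Prime ∧ p ≠ 3)
    (hc : ∀ p ∈ s, ∃ z : T, (∃ k : ℕ, orderOf z = p ^ k) ∧ Nat.card (centralizer ({z} : Set T)) ≤ cf p) :
    Nat.card (ConjClasses T) ≤ 9747 + ∑ p ∈ s, cf p + Nat.card T / (9 * ∏ p ∈ s, p) ^ 2 := by
  obtain ⟨q, hqT, hq9⟩ := hq
  have hq' : orderOf (⟨q, hqT⟩ : T) = 9 := by rw [← orderOf_submonoid (⟨q, hqT⟩ : T), hq9]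
  have h := card_conj_le9 hq' s hs cf hc
  have h1 := cent_le T ⟨q, hqT⟩
  have h2 := cent_dvd T (⟨q, hqT⟩ ^ 3)
  obtain ⟨h3, h4⟩ := R.r9 q hq9
  unfold cn at h3 h4
  have h5 : ((⟨q, hqT⟩ ^ 3 : T) : G) = q ^ 3 := rfl
  rw [h5, h3] at h2
  have h1' : Nat.card (centralizer ({(⟨q, hqT⟩ : T)} : Set T)) ≤ 27 := h1.trans h4.le
  have h7 : ¬ 3 ^ 6 ∣ Nat.card (centralizer ({(⟨q, hqT⟩ ^ 3 : T)} : Set T)) :=
    fun h8 => h6 (h8.trans (card_subgroup_dvd_card _))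
  have h8 : Nat.card (centralizer ({(⟨q, hqT⟩ ^ 3 : T)} : Set T)) ≤ 9720 := by
    generalize Nat.card (centralizer ({(⟨q, hqT⟩ ^ 3 : T)} : Set T)) = n at h2 h7
    obtain ⟨m, hm⟩ := h2
    by_contra hcon
    have hm3 : m < 3 := by
      by_contra h9
      have : 3 * 9721 ≤ m * n := Nat.mul_le_mul (by omega) (by omega)
      rw [mul_comm] at hm
      omega
    interval_cases m
    · omega
    · exact h7 ⟨40, by omega⟩
    · exact h7 ⟨20, by omega⟩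
  omega

/-- **`Bd T` gives the bound** -/
theorem bound_of_bd (R : Raw G) {T : Subgroup G} (hq : ∃ q ∈ T, orderOf q = 9) (hB : Bd T) :
    2 * (Nat.card T * Nat.card (ConjClasses T)) ≤ Nat.card G := by
  rw [card]
  rcases hB with h | ⟨h7, h⟩ | ⟨h7, h, h4⟩ | ⟨h11, h⟩ | ⟨h77, h⟩ | ⟨h7, h6, h⟩
  · exact arith (kl R hq ∅ (by simp) (by simp)) h (by decide +kernel)
  · exact arith (kl R hq {7} (by simp; norm_num) (by simpa using ex_seven R h7)) h (by decide +kernel)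
  · refine arith (kl R hq {7, 2} (by simp; norm_num) ?_) h (by decide +kernel)
    intro p hp
    rw [Finset.mem_insert, Finset.mem_singleton] at hp
    rcases hp with rfl | rfl
    · exact ex_seven R h7
    · exact ex_four R h4
  · exact arith (kl R hq {11} (by simp; norm_num) (by simpa using ex_eleven R h11)) h (by decide +kernel)
  · refine arith (kl R hq {7, 11} (by simp; norm_num) ?_) h (by decide +kernel)
    intro p hp
    rw [Finset.mem_insert, Finset.mem_singleton] at hp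
    rcases hp with rfl | rfl
    · exact ex_seven R (dvd_trans (by norm_num) h77)
    · exact ex_eleven R (dvd_trans (by norm_num) h77)
  · exact arith (kl6 R hq h6 {7} (by simp; norm_num) (by simpa using ex_seven R h7)) h (by decide +kernel)

/-- **the row from its parts, with the class facts of `HN`** -/
theorem row_of (B : Cfsg.Agent.H940.Eng.Base) (R : Raw G)
    (hAB : ∀ T : Subgroup G, T ≠ ⊤ → (∃ q ∈ T, orderOf q = 9) → ¬ 19 ∣ Nat.card T → ¬ Fit T → Bd T)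
    (hN4 : ∀ T : Subgroup G, T ≠ ⊤ → (∃ q ∈ T, orderOf q = 9) → ¬ 19 ∣ Nat.card T → Fit T → Bd T)
    {X : Type*} [Group X] (hX : Spor.IsoHN X) (D : Set ℕ) : Cfsg.Agent.H704.S8.FrobRow 2 D X :=
  row B hAB hN4 (fun _ _ hq _ hB => bound_of_bd R hq hB) hX D

end Cfsg.Agent.H81.S8.HN
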