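import Cfsg.Agent.H285.Gen.HNChain
import Cfsg.Agent.H50.S8.FrobOf
import Cfsg.Agent.H755.S8.KL
import Cfsg.Agent.H772.S8.Tool
import Cfsg.Agent.H388.HNF.Defs

/-!
# S4908, FROB row of HN: the subgroups of order divisible by 19, and the row from its parts (helper81)

* `bound_nineteen` : `19 ∣ |T|`, `T ≠ ⊤` implies `2 |T| k(T) ≤ |HN|`;
* `row_std`, `row` : `FrobRow 2 D X`, `X ≅ HN`, from
  `hAB` (abelian minimal normal subgroup), `hN4` (no abelian normal subgroup) and `hEnd` (`Bd T` gives the bound).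
-/

set_option autoImplicit false

namespace Cfsg.Agent.H81.S8.HN

open Subgroup Cfsg Cfsg.Agent.H940.Eng Cfsg.Agent.H940.Eng.D Cfsg.Agent.H704.S8 Cfsg.Agent.H388.HNF

universe v

abbrev G : Type := Cfsg.Spor.HN

theorem card : Nat.card G = 273030912000000 := Cfsg.Agent.H149.Sp.card_hn

instance fin : Finite G := Nat.finite_of_card_ne_zero (by rw [card]; decide)

/-- the centralizer in a subgroup -/
theorem cent_le (T : Subgroup G) (z : T) :
    Nat.card (centralizer ({z} : Set T)) ≤ Nat.card (centralizer ({(z : G)} : Set G)) := by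
  refine Nat.card_le_card_of_injective
    (fun g : centralizer ({z} : Set T) => (⟨((g : T) : G), ?_⟩ : centralizer ({(z : G)} : Set G))) ?_
  · rw [mem_centralizer_singleton_iff]
    exact congrArg Subtype.val (mem_centralizer_singleton_iff.1 g.2)
  · intro a b h
    exact Subtype.ext (Subtype.ext (by simpa using h))

/-- `k(T) ≤ 19 + |T| / 361` -/
theorem conj_le (T : Subgroup G) (h : 19 ∣ Nat.card T) : Nat.card (ConjClasses T) ≤ 19 + Nat.card T / 361 := by
  have h19 : Nat.Prime 19 := by norm_num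
  have : Fact (Nat.Prime 19) := ⟨h19⟩
  obtain ⟨z, hz⟩ := exists_prime_orderOf_dvd_card' 19 h
  have h1 := Cfsg.Agent.H755.S8.card_conj_le (T := T) {19} (by simp [h19]) (fun _ => 19) (by
    intro p hp
    rw [Finset.mem_singleton] at hp
    subst hp
    refine ⟨z, hz, (cent_le T z).trans ?_⟩
    have h2 : Nat.card (zpowers (z : G)) = 19 := by
      rw [Nat.card_zpowers, orderOf_submonoid z, hz]
    obtain ⟨h3, -⟩ := Cfsg.Agent.H438.Fpr.HN.cn19 h2
    refine le_of_eq_of_le (congrArg (fun A : Subgroup G => Nat.card A) ?_) h3.le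
    rw [zpowers_eq_closure, centralizer_closure])
  simpa using h1

theorem bound_nineteen (B : Base) (T : Subgroup G) (hT : T ≠ ⊤) (h : 19 ∣ Nat.card T) :
    2 * (Nat.card T * Nat.card (ConjClasses T)) ≤ Nat.card G := by
  have h1 := conj_le T h
  have h2 : 2 * (Nat.card T * Nat.card (ConjClasses T)) ≤ 2 * (Nat.card T * (19 + Nat.card T / 361)) :=
    Nat.mul_le_mul_left _ (Nat.mul_le_mul_left _ h1)
  refine h2.trans ?_
  have h3 := Cfsg.Agent.H285.Gen.HN.orders B T h hT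
  rw [card]
  simp only [Cfsg.Agent.H285.Gen.HN.os, List.mem_cons, List.not_mem_nil, or_false] at h3
  rcases h3 with h3 | h3 | h3 | h3 | h3 | h3 <;> rw [h3] <;> norm_num

/-- **the row from its parts** -/
theorem row_std (B : Base)
    (hAB : ∀ T : Subgroup G, T ≠ ⊤ → (∃ q ∈ T, orderOf q = 9) → ¬ 19 ∣ Nat.card T → ¬ Fit T → Bd T)
    (hN4 : ∀ T : Subgroup G, T ≠ ⊤ → (∃ q ∈ T, orderOf q = 9) → ¬ 19 ∣ Nat.card T → Fit T → Bd T)
    (hEnd : ∀ T : Subgroup G, T ≠ ⊤ → (∃ q ∈ T, orderOf q = 9) → ¬ 19 ∣ Nat.card T → Bd T →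
      2 * (Nat.card T * Nat.card (ConjClasses T)) ≤ Nat.card G)
    (D : Set ℕ) : FrobRow 2 D G := by
  have h19 : Nat.Prime 19 := by norm_num
  have : Fact (Nat.Prime 19) := ⟨h19⟩
  obtain ⟨z, hz⟩ := exists_prime_orderOf_dvd_card' (G := G) 19 (by rw [card]; norm_num)
  have hP : Nat.card (zpowers z) = 19 := by rw [Nat.card_zpowers, hz]
  obtain ⟨h3, h4⟩ := Cfsg.Agent.H438.Fpr.HN.cn19 hP
  refine Cfsg.Agent.H50.S8.frobRow_of_norm (p := 19) (q := 9) h19 (by norm_num) (by norm_num) (zpowers z) hP ?_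
    (by rw [h4]) ?_
  · intro g hg
    have h5 : zpowers z ≤ centralizer ((zpowers z : Subgroup G) : Set G) := by
      rw [le_centralizer_iff_isMulCommutative]
      infer_instance
    have h6 : zpowers z = centralizer ((zpowers z : Subgroup G) : Set G) :=
      eq_of_le_of_card_ge h5 (by rw [h3, hP])
    rw [h6, mem_centralizer_iff]
    intro u hu
    exact (hg u hu).symm
  · intro T hT h _
    by_cases h9 : 19 ∣ Nat.card T
    · exact bound_nineteen B T hT h9
    · rcases h with h | ⟨Q, hQT, hQc, hQ⟩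
      · exact absurd h h9
      obtain ⟨⟨q, hq⟩, hq1⟩ := hQc.exists_generator
      have hq9 : orderOf q = 9 := by
        have h5 : orderOf (⟨q, hq⟩ : Q) = Nat.card Q := orderOf_eq_card_of_forall_mem_zpowers hq1
        rw [← hQ, ← h5]
        exact (orderOf_submonoid (⟨q, hq⟩ : Q))
      have hq' : ∃ q ∈ T, orderOf q = 9 := ⟨q, hQT hq, hq9⟩
      refine hEnd T hT hq' h9 ?_
      by_cases hF : Fit T
      · exact hN4 T hT hq' h9 hF
      · exact hAB T hT hq' h9 hF

/-- **FROB HN, from its parts** -/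
theorem row (B : Base)
    (hAB : ∀ T : Subgroup G, T ≠ ⊤ → (∃ q ∈ T, orderOf q = 9) → ¬ 19 ∣ Nat.card T → ¬ Fit T → Bd T)
    (hN4 : ∀ T : Subgroup G, T ≠ ⊤ → (∃ q ∈ T, orderOf q = 9) → ¬ 19 ∣ Nat.card T → Fit T → Bd T)
    (hEnd : ∀ T : Subgroup G, T ≠ ⊤ → (∃ q ∈ T, orderOf q = 9) → ¬ 19 ∣ Nat.card T → Bd T →
      2 * (Nat.card T * Nat.card (ConjClasses T)) ≤ Nat.card G)
    {X : Type v} [Group X] (hX : Spor.IsoHN X) (D : Set ℕ) : FrobRow 2 D X := by
  obtain ⟨e⟩ := hX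
  exact Cfsg.Agent.H772.S8.congr e (row_std B hAB hN4 hEnd D)

end Cfsg.Agent.H81.S8.HN
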